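import Groth.Agent.EGA4Alg4.SepVars

/-!
A finite algebra becomes, after a finite free cover of the base, a quotient of a finite free algebra whose
spectrum is a union of sections.
-/

set_option autoImplicit false
universe u

open Polynomial
open scoped TensorProduct

namespace Groth.Agent.SplitCov57

variable {A : Type u} [CommRing A]

/-- Finitely many monic polynomials split over a finite free extension. -/
theorem exists_splitting : ∀ (n : ℕ) (P : Fin n → A[X]), (∀ i, (P i).Monic) →
    ∃ (S : Type u) (_ : CommRing S) (_ : Algebra A S), Module.Finite A S ∧ Module.Free A S ∧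
      (Nontrivial A → Nontrivial S) ∧ ∀ i, ((P i).map (algebraMap A S)).Splits := by
  intro n
  induction n with
  | zero => exact fun P _ => ⟨A, inferInstance, inferInstance, inferInstance, inferInstance, id, fun i => i.elim0⟩
  | succ n ih =>
    intro P hP
    obtain ⟨S, _, _, hfin, hfree, hnt, hs⟩ := ih (fun i => P i.succ) fun i => hP _
    rcases subsingleton_or_nontrivial S with hS | hS
    · refine ⟨S, inferInstance, inferInstance, hfin, hfree, hnt, fun i => ?_⟩
      rw [Subsingleton.elim ((P i).map (algebraMap A S)) 1]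
      exact Polynomial.Splits.one
    obtain ⟨T, _, _, hfin', hfree', hnt', hT⟩ := ((hP 0).map (algebraMap A S)).exists_splits_map
    algebraize [(algebraMap S T).comp (algebraMap A S)]
    refine ⟨T, inferInstance, inferInstance, Module.Finite.trans S T, Module.Free.trans (S := S),
      fun _ => hnt', fun i => ?_⟩
    rw [IsScalarTower.algebraMap_eq A S T, ← Polynomial.map_map]
    exact Fin.cases hT (fun j => (hs j).map (algebraMap S T)) i

/-- The algebraic content: after a finite free cover `S` of `A`, the algebra `B ⊗ S` is a quotient of a finite free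
`S`-algebra `C` whose spectrum is covered by finitely many sections. -/
theorem exists_cover (A B : Type u) [CommRing A] [CommRing B] [Algebra A B] [Module.Finite A B] :
    ∃ (S : Type u) (_ : CommRing S) (_ : Algebra A S) (C : Type u) (_ : CommRing C) (_ : Algebra S C)
      (φ : C →+* B ⊗[A] S) (m : ℕ) (σ : Fin m → (C →ₐ[S] S)),
      Module.Finite A S ∧ Module.Free A S ∧ (Nontrivial A → Nontrivial S) ∧
      Module.Finite S C ∧ Module.Free S C ∧
      Function.Surjective φ ∧ φ.comp (algebraMap S C) = Algebra.TensorProduct.includeRight.toRingHom ∧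
      ∀ q : PrimeSpectrum C, ∃ j, RingHom.ker (σ j) ≤ q.asIdeal := by
  classical
  obtain ⟨s, hs⟩ := (inferInstance : Algebra.FiniteType A B).1
  let b : Fin s.card → B := fun i => (s.equivFin.symm i : B)
  have hb : ∀ x ∈ s, ∃ i, b i = x := fun x hx => ⟨s.equivFin ⟨x, hx⟩, by simp [b]⟩
  choose P hPm hP using fun i => (Algebra.IsIntegral.isIntegral (R := A) (b i))
  obtain ⟨S, _, _, hfin, hfree, hnt, hsplit⟩ := exists_splitting s.card P hPm
  let Q : Fin s.card → S[X] := fun i => (P i).map (algebraMap A S)
  have hQm : ∀ i, (Q i).Monic := fun i => (hPm i).map _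
  choose r hr using fun i => Polynomial.splits_iff_exists_multiset.1 (hsplit i)
  have hQ : ∀ i, Q i = ((r i).map fun x => Polynomial.X - Polynomial.C x).prod := fun i => by
    have := hr i
    rwa [(hQm i).leadingCoeff, map_one, one_mul] at this
  let C := MvPolynomial (Fin s.card) S ⧸ EGA4Alg4.SepVars13.sepIdeal Q
  have hC : Module.Finite S C ∧ Module.Free S C := by
    rcases subsingleton_or_nontrivial S with hS | hS
    · have : Subsingleton C := Module.subsingleton S C
      exact ⟨inferInstance, inferInstance⟩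
    · obtain ⟨h1, h2, -⟩ := EGA4Alg4.SepVars13.free_and_finrank Q hQm
      exact ⟨h2, h1⟩
  let φ₀ : MvPolynomial (Fin s.card) S →+* B ⊗[A] S :=
    MvPolynomial.eval₂Hom Algebra.TensorProduct.includeRight.toRingHom fun i => b i ⊗ₜ[A] (1 : S)
  have hφ₀ : ∀ x ∈ EGA4Alg4.SepVars13.sepIdeal Q, φ₀ x = 0 := by
    intro x hx
    refine (Ideal.span_le (I := RingHom.ker φ₀)).2 ?_ hx
    rintro _ ⟨i, rfl⟩
    show φ₀ (Polynomial.aeval (MvPolynomial.X i) ((P i).map (algebraMap A S))) = 0
    rw [Polynomial.aeval_def, Polynomial.eval₂_map, Polynomial.hom_eval₂]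
    have h2 : (φ₀.comp ((algebraMap S (MvPolynomial (Fin s.card) S)).comp (algebraMap A S))) =
        (Algebra.TensorProduct.includeLeftRingHom : B →+* B ⊗[A] S).comp (algebraMap A B) := by
      ext a
      simp only [φ₀, RingHom.comp_apply, MvPolynomial.algebraMap_eq, MvPolynomial.eval₂Hom_C,
        AlgHom.toRingHom_eq_coe, RingHom.coe_coe, Algebra.TensorProduct.includeRight_apply,
        Algebra.TensorProduct.includeLeftRingHom_apply]
      exact ((Algebra.TensorProduct.tmul_one_eq_one_tmul a)).symm
    rw [h2, show φ₀ (MvPolynomial.X i) = (Algebra.TensorProduct.includeLeftRingHom : B →+* B ⊗[A] S) (b i) by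
      simp [φ₀], ← Polynomial.hom_eval₂, hP i, map_zero]
  let φ : C →+* B ⊗[A] S := Ideal.Quotient.lift _ φ₀ hφ₀
  have hsurj : Function.Surjective φ := by
    refine Ideal.Quotient.lift_surjective_of_surjective _ hφ₀ fun z => ?_
    induction z with
    | zero => exact ⟨0, map_zero _⟩
    | add x y hx hy =>
      obtain ⟨x, rfl⟩ := hx; obtain ⟨y, rfl⟩ := hy
      exact ⟨x + y, map_add _ _ _⟩
    | tmul x t =>
      have hx : x ∈ Algebra.adjoin A (s : Set B) := by rw [hs]; trivial
      suffices ∃ p, φ₀ p = x ⊗ₜ 1 by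
        obtain ⟨p, hp⟩ := this
        exact ⟨p * MvPolynomial.C t, by rw [map_mul, hp]; simp [φ₀, Algebra.TensorProduct.tmul_mul_tmul]⟩
      induction hx using Algebra.adjoin_induction with
      | mem y hy =>
        obtain ⟨i, rfl⟩ := hb y hy
        exact ⟨MvPolynomial.X i, by simp [φ₀]⟩
      | algebraMap a =>
        exact ⟨MvPolynomial.C (algebraMap A S a), by
          simp only [φ₀, MvPolynomial.eval₂Hom_C, AlgHom.toRingHom_eq_coe, RingHom.coe_coe,
            Algebra.TensorProduct.includeRight_apply]
          exact (Algebra.TensorProduct.tmul_one_eq_one_tmul a).symm⟩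
      | add y z _ _ hy hz =>
        obtain ⟨p, hp⟩ := hy; obtain ⟨q, hq⟩ := hz
        exact ⟨p + q, by rw [map_add, hp, hq, TensorProduct.add_tmul]⟩
      | mul y z _ _ hy hz =>
        obtain ⟨p, hp⟩ := hy; obtain ⟨q, hq⟩ := hz
        exact ⟨p * q, by rw [map_mul, hp, hq, Algebra.TensorProduct.tmul_mul_tmul, one_mul]⟩
  let J := (i : Fin s.card) → {x // x ∈ (r i).toFinset}
  have hσ : ∀ (j : J), ∀ x ∈ EGA4Alg4.SepVars13.sepIdeal Q, MvPolynomial.aeval (fun i => (j i).1) x = (0 : S) := by
    intro j x hx
    refine (Ideal.span_le (I := RingHom.ker (MvPolynomial.aeval (R := S) fun i => (j i).1).toRingHom)).2 ?_ hx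
    rintro _ ⟨i, rfl⟩
    show MvPolynomial.aeval (R := S) (fun i => (j i).1) (Polynomial.aeval (MvPolynomial.X i) (Q i)) = 0
    rw [← Polynomial.aeval_algHom_apply, MvPolynomial.aeval_X, Polynomial.coe_aeval_eq_eval, hQ i,
      Polynomial.eval_multiset_prod]
    refine Multiset.prod_eq_zero ?_
    simp only [Multiset.map_map, Multiset.mem_map]
    exact ⟨(j i).1, Multiset.mem_toFinset.1 (j i).2, by simp⟩
  let σ : J → (C →ₐ[S] S) := fun j => Ideal.Quotient.liftₐ _ (MvPolynomial.aeval fun i => (j i).1) (hσ j)
  refine ⟨S, inferInstance, inferInstance, C, inferInstance, inferInstance, φ, Fintype.card J,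
    fun k => σ ((Fintype.equivFin J).symm k), hfin, hfree, hnt, hC.1, hC.2, hsurj, ?_, fun q => ?_⟩
  · ext t
    show φ₀ (MvPolynomial.C t) = _
    simp [φ₀]
  · let π : C →ₐ[S] C ⧸ q.asIdeal := Ideal.Quotient.mkₐ S _
    have hz : ∀ i, ∃ x : {x // x ∈ (r i).toFinset},
        π (Ideal.Quotient.mk _ (MvPolynomial.X i)) = algebraMap S _ x.1 := by
      intro i
      have h0 : Polynomial.aeval (π (Ideal.Quotient.mk _ (MvPolynomial.X i))) (Q i) = 0 := by
        have h : (Ideal.Quotient.mkₐ S (EGA4Alg4.SepVars13.sepIdeal Q))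
            ((Polynomial.aeval (MvPolynomial.X i : MvPolynomial (Fin s.card) S)) (Q i)) = 0 :=
          Ideal.Quotient.eq_zero_iff_mem.2 (Ideal.subset_span ⟨i, rfl⟩)
        rw [Polynomial.aeval_algHom_apply, ← Ideal.Quotient.mkₐ_eq_mk S, Polynomial.aeval_algHom_apply,
          h, map_zero]
      rw [hQ i, map_multiset_prod, Multiset.map_map,
        Multiset.prod_eq_zero_iff, Multiset.mem_map] at h0
      obtain ⟨x, hx, hx0⟩ := h0
      refine ⟨⟨x, Multiset.mem_toFinset.2 hx⟩, ?_⟩
      simpa [sub_eq_zero] using hx0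
    choose j hj using hz
    refine ⟨Fintype.equivFin J j, fun c hc => ?_⟩
    simp only [Equiv.symm_apply_apply] at hc
    have : π = (Algebra.ofId S _).comp (σ j) := by
      apply Ideal.Quotient.algHom_ext
      apply MvPolynomial.algHom_ext
      intro i
      show π (Ideal.Quotient.mk _ (MvPolynomial.X i)) = algebraMap S _ (MvPolynomial.aeval (fun i => (j i).1) (MvPolynomial.X i))
      rw [MvPolynomial.aeval_X, hj i]
    refine Ideal.Quotient.eq_zero_iff_mem.1 (show π c = 0 from ?_)
    rw [this, AlgHom.comp_apply, show σ j c = 0 from hc, map_zero]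

end Groth.Agent.SplitCov57
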